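import Cfsg.Agent.Lib.HeckeW.Generic

/-!
# The centre of the Hecke algebra has constant dimension

* `rank_map_le` : evaluating does not raise the rank;
* `ker_Kop_eq_range` : for a positive real parameter the centre is the image of `Mop`;
* `finrank_ker_Kop` : its dimension is the number of classes of `W`.
-/

set_option autoImplicit false

namespace Cfsg.Agent.HeckeW

open Cfsg.Agent.BN Finset
open scoped ComplexConjugate Polynomial

section rank

variable {m n : Type*} [Fintype m] [Fintype n] [DecidableEq m] [DecidableEq n]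
  {A₀ k F : Type*} [CommRing A₀] [Field k] [Field F]

/-- Evaluation does not raise the rank. -/
theorem rank_map_le (ev : A₀ →+* k) (hev : Function.Surjective ev) (φ : A₀ →+* F)
    (hφ : Function.Injective φ) (A : Matrix m n A₀) : (A.map ev).rank ≤ (A.map φ).rank := by
  set f := (A.map ev).mulVecLin with hf
  set r := (A.map ev).rank
  let b : Module.Basis (Fin r) k (LinearMap.range f) := Module.finBasis k _
  have hb : ∀ i, ∃ x, f x = b i := fun i => (b i).2
  choose x hx using hb
  obtain ⟨g₀, hg₀⟩ := (LinearMap.range f).subtype.exists_leftInverse_of_injective (Submodule.ker_subtype _)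
  let g : (m → k) →ₗ[k] (Fin r → k) := b.equivFun.toLinearMap ∘ₗ g₀
  let X : Matrix n (Fin r) k := Matrix.of fun j i => x i j
  let Y : Matrix (Fin r) m k := LinearMap.toMatrix' g
  have hone : Y * A.map ev * X = 1 := by
    refine Matrix.ext_of_mulVec_single fun i => ?_
    rw [← Matrix.mulVec_mulVec, ← Matrix.mulVec_mulVec, Matrix.one_mulVec,
      show X.mulVec (Pi.single i 1) = x i by funext j; simp [X, Matrix.mulVec_single_one],
      show (A.map ev).mulVec (x i) = (b i : m → k) from hx i, LinearMap.toMatrix'_mulVec]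
    have e : g₀ (b i : m → k) = b i := LinearMap.congr_fun hg₀ (b i)
    simp only [g, LinearMap.coe_comp, Function.comp_apply, LinearEquiv.coe_coe, e]
    funext j
    rw [Module.Basis.equivFun_self, Pi.single_apply]
    split_ifs with h1 h2 h3
    · rfl
    · exact absurd h1.symm h2
    · exact absurd h3.symm h1
    · rfl
  let Y' : Matrix (Fin r) m A₀ := Y.map (Function.surjInv hev)
  let X' : Matrix n (Fin r) A₀ := X.map (Function.surjInv hev)
  have hY : Y'.map ev = Y := by ext a c; simp [Y', Function.surjInv_eq hev]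
  have hX : X'.map ev = X := by ext a c; simp [X', Function.surjInv_eq hev]
  have hdet : (Y' * A * X').det ≠ 0 := by
    intro h0
    have h1 := ev.map_det (Y' * A * X')
    rw [h0, map_zero, RingHom.mapMatrix_apply, Matrix.map_mul, Matrix.map_mul, hY, hX, hone,
      Matrix.det_one] at h1
    exact zero_ne_one h1
  have hu : IsUnit (Y'.map φ * A.map φ * X'.map φ) := by
    rw [Matrix.isUnit_iff_isUnit_det, ← Matrix.map_mul, ← Matrix.map_mul, ← RingHom.mapMatrix_apply,
      ← RingHom.map_det, isUnit_iff_ne_zero]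
    exact (map_ne_zero_iff φ hφ).2 hdet
  have hr := Matrix.rank_of_isUnit _ hu
  rw [Fintype.card_fin] at hr
  rw [← hr]
  exact ((Matrix.rank_mul_le_left _ _).trans (Matrix.rank_mul_le_right _ _))

end rank

variable {S W : Type*} [Group W] {σ : S → W} [Fintype W] [DecidableEq W] (h : HasExchange σ)

section real

variable (r : ℝ)

/-- The weighted inner product. -/
noncomputable def ip (σ : S → W) (r : ℝ) (a b : W → ℂ) : ℂ :=
  ∑ u, (r : ℂ) ^ wlen σ u * (conj (a u) * b u)

omit [DecidableEq W] in
include h in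
theorem ip_Lop (s : S) (a b : W → ℂ) :
    ip σ r (Lop σ (r : ℂ) s a) b = ip σ r a (Lop σ (r : ℂ) s b) := by
  let A : W → ℂ := fun u => if wlen σ (σ s * u) < wlen σ u then 1 else r
  let B : W → ℂ := fun u => if wlen σ (σ s * u) < wlen σ u then (r : ℂ) - 1 else 0
  have hop : ∀ (z : W → ℂ) (u : W), Lop σ (r : ℂ) s z u = A u * z (σ s * u) + B u * z u := by
    intro z u
    simp only [Lop_apply, A, B]
    split_ifs <;> simp
  have hA : ∀ u, conj (A u) = A u := fun u => by simp only [A]; split_ifs <;> simp
  have hB : ∀ u, conj (B u) = B u := fun u => by simp only [B]; split_ifs <;> simp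
  have hω : ∀ u, (r : ℂ) ^ wlen σ (σ s * u) * A (σ s * u) = (r : ℂ) ^ wlen σ u * A u := by
    intro u
    simp only [A, sigma_mul_cancel h.sq]
    rcases h.wlen_sigma_mul_cases s u with hc | hc
    · rw [if_pos (by omega), if_neg (by omega), hc, pow_succ]; ring
    · rw [if_neg (by omega), if_pos (by omega), ← hc, pow_succ]; ring
  simp only [ip, hop, map_add, map_mul, hA, hB, add_mul, mul_add, Finset.sum_add_distrib]
  congr 1
  · refine Fintype.sum_equiv (Equiv.mulLeft (σ s)) _ _ fun u => ?_
    simp only [Equiv.coe_mulLeft, sigma_mul_cancel h.sq]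
    calc (r : ℂ) ^ wlen σ u * (A u * conj (a (σ s * u)) * b u)
        = ((r : ℂ) ^ wlen σ u * A u) * (conj (a (σ s * u)) * b u) := by ring
      _ = _ := by rw [← hω]; ring
  · exact Finset.sum_congr rfl fun u _ => by ring

omit [DecidableEq W] in
include h in
theorem ip_Lprod (l : List S) (a b : W → ℂ) :
    ip σ r (Lprod σ (r : ℂ) l.reverse a) b = ip σ r a (Lprod σ (r : ℂ) l b) := by
  induction l generalizing a b with
  | nil => rfl
  | cons s l ih =>
    rw [Lprod_cons, Module.End.mul_apply, ← ip_Lop h r, List.reverse_cons, ← ih]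
    congr 1
    rw [Lprod, Lprod, List.map_append, List.prod_append]
    simp

omit [Fintype W] [DecidableEq W] in
include h in
/-- On the centre the right products are the reversed left products. -/
theorem Rprod_eq_of_central {R : Type*} [CommRing R] (t : R) {z : W → R}
    (hz : ∀ s, Lop σ t s z = Rop σ t s z) (l : List S) : Rprod σ t l z = Lprod σ t l.reverse z := by
  induction l with
  | nil => rfl
  | cons s l ih =>
    rw [Rprod_cons, Module.End.mul_apply, ih, ← Module.End.mul_apply, Rop_Lprod t h, Module.End.mul_apply,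
      ← hz, ← Module.End.mul_apply, List.reverse_cons]
    congr 1
    rw [Lprod, Lprod, List.map_append, List.prod_append]
    simp

omit [DecidableEq W] in
theorem ip_self_re (a : W → ℂ) :
    (ip σ r a a).re = ∑ u, r ^ wlen σ u * Complex.normSq (a u) := by
  rw [ip, Complex.re_sum]
  refine Finset.sum_congr rfl fun u _ => ?_
  rw [← Complex.normSq_eq_conj_mul_self, ← Complex.ofReal_pow, ← Complex.ofReal_mul, Complex.ofReal_re]

theorem ker_Kop_eq_range (hr : 0 < r) :
    LinearMap.ker (Kop (σ := σ) (r : ℂ)) = LinearMap.range (Mop (r : ℂ) h) := by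
  set t : ℂ := (r : ℂ)
  have hle : LinearMap.range (Mop t h) ≤ LinearMap.ker (Kop (σ := σ) t) :=
    LinearMap.range_le_ker_iff.2 (Kop_comp_Mop t h)
  refine le_antisymm ?_ hle
  let f : LinearMap.ker (Kop (σ := σ) t) →ₗ[ℂ] LinearMap.ker (Kop (σ := σ) t) :=
    LinearMap.codRestrict _ (Mop t h ∘ₗ Submodule.subtype _) fun z => hle ⟨_, rfl⟩
  have hinj : Function.Injective f := by
    rw [← LinearMap.ker_eq_bot, eq_bot_iff]
    rintro ⟨z, hz⟩ hz0
    have hz' : ∀ s, Lop σ t s z = Rop σ t s z := (Kop_eq_zero_iff t).1 hz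
    have hM : Mop t h z = 0 := congrArg Subtype.val (LinearMap.mem_ker.1 hz0)
    have h0 : (ip σ r z (Mop t h z)).re = 0 := by rw [hM]; simp [ip]
    have e : ip σ r z (Mop t h z) = ∑ w : W, t ^ (maxLen σ - wlen σ w) *
        ip σ r (Lprod σ t (redWord h w).reverse z) (Lprod σ t (redWord h w).reverse z) := by
      simp only [Mop, LinearMap.sum_apply, LinearMap.smul_apply, Module.End.mul_apply,
        Rprod_eq_of_central h t hz']
      simp only [ip, Finset.sum_apply, Pi.smul_apply, smul_eq_mul, Finset.mul_sum]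
      rw [Finset.sum_comm]
      refine Finset.sum_congr rfl fun w _ => ?_
      rw [← Finset.mul_sum]
      have := ip_Lprod h r (redWord h w) z (Lprod σ t (redWord h w).reverse z)
      simp only [ip] at this
      rw [this, Finset.mul_sum]
      exact Finset.sum_congr rfl fun u _ => by ring
    rw [e, Complex.re_sum] at h0
    simp only [t, ← Complex.ofReal_pow, Complex.re_ofReal_mul, ip_self_re] at h0
    have hnn : ∀ (a : W → ℂ) (u : W), 0 ≤ r ^ wlen σ u * Complex.normSq (a u) := fun a u =>
      mul_nonneg (pow_nonneg hr.le _) (Complex.normSq_nonneg _)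
    have h1 := (Finset.sum_eq_zero_iff_of_nonneg fun w _ => mul_nonneg (pow_nonneg hr.le _)
      (Finset.sum_nonneg fun u _ => hnn _ u)).1 h0 1 (Finset.mem_univ _)
    rw [redWord_one, List.reverse_nil, Lprod_nil, Module.End.one_apply, mul_eq_zero] at h1
    have h2 := h1.resolve_left (pow_ne_zero _ hr.ne')
    refine Submodule.mem_bot ℂ |>.2 (Subtype.ext (funext fun u => ?_))
    have h3 := (Finset.sum_eq_zero_iff_of_nonneg fun u _ => hnn z u).1 h2 u (Finset.mem_univ _)
    exact Complex.normSq_eq_zero.1 ((mul_eq_zero.1 h3).resolve_left (pow_ne_zero _ hr.ne'))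
  intro z hz
  obtain ⟨y, hy⟩ := LinearMap.surjective_of_injective hinj ⟨z, hz⟩
  exact ⟨y.1, congrArg Subtype.val hy⟩

end real

section deform

variable [Fintype S] [DecidableEq S]

theorem toMatrix_map {m : Type*} {A B : Type*} [CommRing A] [CommRing B] (φ : A →+* B)
    (f : (W → A) →ₗ[A] (m → A)) (g : (W → B) →ₗ[B] (m → B)) (hfg : ∀ z, φ ∘ f z = g (φ ∘ z)) :
    (LinearMap.toMatrix' f).map φ = LinearMap.toMatrix' g := by
  ext i j
  simp only [Matrix.map_apply, LinearMap.toMatrix'_apply]
  have e : φ ∘ (Pi.single j (1 : A) : W → A) = Pi.single j (1 : B) := by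
    funext u; by_cases hu : u = j
    · subst hu; simp
    · simp [hu]
  have h1 := congrFun (hfg (Pi.single j (1 : A))) i
  rw [e] at h1
  exact h1

theorem rank_toMatrix {m : Type*} {k : Type*} [Field k] (f : (W → k) →ₗ[k] (m → k)) :
    (LinearMap.toMatrix' f).rank = Module.finrank k (LinearMap.range f) := by
  rw [Matrix.rank, ← Matrix.toLin'_apply', Matrix.toLin'_toMatrix']

include h in
/-- The rank of the commutator map is that of the generic one. -/
theorem finrank_range_Kop {r : ℝ} (hr : 0 < r) :
    Module.finrank ℂ (LinearMap.range (Kop (σ := σ) (r : ℂ))) =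
      Module.finrank (FractionRing ℂ[X]) (LinearMap.range (Kop (σ := σ)
        (algebraMap ℂ[X] (FractionRing ℂ[X]) Polynomial.X))) := by
  set φ := algebraMap ℂ[X] (FractionRing ℂ[X])
  have hφ : Function.Injective φ := IsFractionRing.injective _ _
  set ev := Polynomial.evalRingHom (r : ℂ)
  have hev : Function.Surjective ev := fun c => ⟨Polynomial.C c, by simp [ev]⟩
  have hX : ev Polynomial.X = (r : ℂ) := by simp [ev]
  have hK := rank_map_le ev hev φ hφ (LinearMap.toMatrix' (Kop (σ := σ) (Polynomial.X : ℂ[X])))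
  rw [toMatrix_map φ _ _ (Kop_map _ φ), toMatrix_map ev _ _ (Kop_map _ ev), hX, rank_toMatrix,
    rank_toMatrix] at hK
  have hM := rank_map_le ev hev φ hφ (LinearMap.toMatrix' (Mop (Polynomial.X : ℂ[X]) h))
  rw [toMatrix_map φ _ _ (Mop_map _ φ h), toMatrix_map ev _ _ (Mop_map _ ev h), hX, rank_toMatrix,
    rank_toMatrix] at hM
  have h1 := LinearMap.finrank_range_add_finrank_ker (Kop (σ := σ) (r : ℂ))
  rw [ker_Kop_eq_range h r hr, Module.finrank_fintype_fun_eq_card] at h1
  have h2 := LinearMap.finrank_range_add_finrank_ker (Kop (σ := σ) (φ Polynomial.X))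
  have h3 := Submodule.finrank_mono (LinearMap.range_le_ker_iff.2 (Kop_comp_Mop (φ Polynomial.X) h))
  rw [Module.finrank_fintype_fun_eq_card] at h2
  omega

omit [Fintype S] [DecidableEq S] in
include h in
/-- At `1` the centre consists of the class functions. -/
theorem finrank_ker_Kop_one :
    Module.finrank ℂ (LinearMap.ker (Kop (σ := σ) (1 : ℂ))) = Nat.card (ConjClasses W) := by
  classical
  let f : (ConjClasses W → ℂ) →ₗ[ℂ] (W → ℂ) := LinearMap.funLeft ℂ ℂ ConjClasses.mk
  have hf : Function.Injective f := by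
    intro a b e
    funext c
    obtain ⟨w, rfl⟩ := ConjClasses.exists_rep c
    exact congrFun e w
  have hmem : ∀ z : W → ℂ, z ∈ LinearMap.ker (Kop (σ := σ) (1 : ℂ)) ↔
      ∀ s u, z (σ s * u) = z (u * σ s) := by
    intro z
    rw [LinearMap.mem_ker, Kop_eq_zero_iff]
    simp only [funext_iff, Lop_apply, Rop_apply, sub_self, zero_mul, add_zero, one_mul, ite_self]
  have hrange : LinearMap.range f = LinearMap.ker (Kop (σ := σ) (1 : ℂ)) := by
    refine le_antisymm ?_ fun z hz => ?_
    · rintro _ ⟨a, rfl⟩
      rw [hmem]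
      intro s u
      refine congrArg a (ConjClasses.mk_eq_mk_iff_isConj.2 ?_)
      exact isConj_iff.2 ⟨σ s, by rw [sigma_inv h.sq, ← mul_assoc (σ s), h.sq, one_mul]⟩
    · rw [hmem] at hz
      have hall : ∀ g : W, ∀ u, z (g * u) = z (u * g) := by
        intro g
        have hg : g ∈ Subgroup.closure (Set.range σ) := by rw [h.gen]; trivial
        induction hg using Subgroup.closure_induction with
        | mem x hx => obtain ⟨s, rfl⟩ := hx; exact hz s
        | one => intro u; simp
        | mul x y _ _ hx hy => intro u; rw [mul_assoc, hx, mul_assoc, hy, mul_assoc]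
        | inv x _ hx => intro u; have := hx (x⁻¹ * u * x⁻¹); simp [mul_assoc] at this; exact this.symm
      refine ⟨fun c => Quotient.liftOn' c z fun a b hab => ?_, rfl⟩
      obtain ⟨c', rfl⟩ := isConj_iff.1 (show IsConj a b from hab)
      rw [mul_assoc, hall c' (a * c'⁻¹), mul_assoc, inv_mul_cancel, mul_one]
  rw [← hrange, LinearMap.finrank_range_of_inj hf, Module.finrank_fintype_fun_eq_card,
    Nat.card_eq_fintype_card]

omit [Fintype S] [DecidableEq S] in
include h in
/-- The dimension of the centre. -/
theorem finrank_ker_Kop [Finite S] {r : ℝ} (hr : 0 < r) :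
    Module.finrank ℂ (LinearMap.ker (Kop (σ := σ) (r : ℂ))) = Nat.card (ConjClasses W) := by
  classical
  letI := Fintype.ofFinite S
  have h1 := finrank_range_Kop h hr
  have h2 := finrank_range_Kop h (r := 1) one_pos
  rw [Complex.ofReal_one] at h2
  have h3 := LinearMap.finrank_range_add_finrank_ker (Kop (σ := σ) (r : ℂ))
  have h4 := LinearMap.finrank_range_add_finrank_ker (Kop (σ := σ) (1 : ℂ))
  rw [finrank_ker_Kop_one h] at h4
  omega

end deform

end Cfsg.Agent.HeckeW
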