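import Cfsg.Agent.Lib.HeckeW.Realise
import Cfsg.Agent.Lib.HeckeW.Deform
import Cfsg.Agent.Lib.Char.Orth
import Cfsg.Agent.Lib.Char.Induced
import Cfsg.Agent.Lib.Char.Perm
import Cfsg.Agent.Lib.Char.Eigen
import Cfsg.Agent.Lib.HeckeU.Schur

/-!
# The constituents of the permutation character on `G/B`

`theta f w = ∑_{β ∈ B} f(n_w β)` maps class functions onto the centre of the Hecke algebra and is
injective on the span of the constituents; hence `card_constituents_eq_classes`.
-/

set_option autoImplicit false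

namespace Cfsg.Agent.HeckeW

open Cfsg Cfsg.Agent.BN Cfsg.Agent.ChevOrder Cfsg.Agent.Char Finset
open scoped Classical Matrix ComplexConjugate

variable {G : Type*} [Group G] [Fintype G] (P : Cfsg.BNPair G)

/-- The sum over the coset `c B`. -/
noncomputable def hfun (f : G → ℂ) (c : G) : ℂ := ∑ β : P.B, f (c * β)

/-- The values of `hfun` at representatives of the Weyl group. -/
noncomputable def theta : (G → ℂ) →ₗ[ℂ] (Weyl P → ℂ) where
  toFun f w := hfun P f ((w.out : P.N) : G)
  map_add' a b := by funext w; simp [hfun, Finset.sum_add_distrib]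
  map_smul' c a := by funext w; simp [hfun, Finset.mul_sum]

variable {P}

theorem theta_cellW {f : G → ℂ} (hf : IsClassFunction G f) (c : G) :
    theta P f (cellW P c) = hfun P f c := by
  have hc := mem_cellW P c
  rw [C, DoubleCoset.mem_doubleCoset] at hc
  obtain ⟨b, hb, b', hb', e⟩ := hc
  set n := (((cellW P c).out : P.N) : G)
  show hfun P f n = hfun P f c
  rw [e, hfun, hfun]
  refine (Fintype.sum_equiv ((Equiv.mulLeft (⟨b', hb'⟩ : P.B)).trans (Equiv.mulRight (⟨b, hb⟩ : P.B)))
    (fun β => f (b * n * b' * β)) _ fun β => ?_).symm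
  show f (b * n * b' * β) = f (n * (b' * (β : G) * b))
  have h := hf (n * (b' * (β : G) * b)) b
  rw [show b * (n * (b' * (β : G) * b)) * b⁻¹ = b * n * b' * β by group] at h
  exact h

theorem Phi_theta {f : G → ℂ} (hf : IsClassFunction G f) (g k : G) :
    Phi P (theta P f) (g : G ⧸ P.B) (k : G ⧸ P.B) = hfun P f (g⁻¹ * k) := by
  rw [Phi_mk, theta_cellW hf]

theorem adjC_mk (w : Weyl P) (g k : G) :
    adjC P w (g : G ⧸ P.B) (k : G ⧸ P.B) = if cellW P (g⁻¹ * k) = w then 1 else 0 := by
  rw [← Phi_single, Phi_mk, Pi.single_apply]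

theorem sum_cosets (F : G ⧸ P.B → ℂ) : ∑ g : G, F (g : G ⧸ P.B) = (Nat.card P.B : ℂ) * ∑ x, F x := by
  rw [Fintype.sum_equiv (Subgroup.groupEquivQuotientProdSubgroup (s := P.B)) (fun g => F (g : G ⧸ P.B))
    (fun z => F z.1) (fun g => rfl), Fintype.sum_prod_type, Finset.mul_sum]
  exact Finset.sum_congr rfl fun x _ => by
    simp [Nat.card_eq_fintype_card]

theorem cellW_mul_right_sub (e : G) (β : P.B) : cellW P (e * β) = cellW P e := cellW_mul_right P e β.2

/-- The images of class functions are central. -/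
theorem adjC_comm_theta {f : G → ℂ} (hf : IsClassFunction G f) (s : P.S) :
    adjC P (BN.sigma P s) * Phi P (theta P f) = Phi P (theta P f) * adjC P (BN.sigma P s) := by
  set w := BN.sigma P s
  have hB : (Nat.card P.B : ℂ) ≠ 0 := Nat.cast_ne_zero.2 Nat.card_pos.ne'
  ext x y
  induction x using QuotientGroup.induction_on with
  | H g =>
  induction y using QuotientGroup.induction_on with
  | H k =>
  rw [Matrix.mul_apply, Matrix.mul_apply]
  refine mul_left_cancel₀ hB ?_
  rw [← sum_cosets (fun u => adjC P w (g : G ⧸ P.B) u * Phi P (theta P f) u (k : G ⧸ P.B)),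
    ← sum_cosets (fun u => Phi P (theta P f) (g : G ⧸ P.B) u * adjC P w u (k : G ⧸ P.B))]
  simp only [adjC_mk, Phi_theta hf, ite_mul, one_mul, zero_mul, mul_ite, mul_one, mul_zero]
  set c := g⁻¹ * k with hc
  let T : P.B → ℂ := fun _ => ∑ e : G, if cellW P e = w then f (c * e⁻¹) else 0
  have h1 : (∑ a : G, if cellW P (g⁻¹ * a) = w then hfun P f (a⁻¹ * k) else 0) = ∑ β : P.B, T β := by
    rw [Fintype.sum_equiv (Equiv.mulLeft g⁻¹) (fun a => if cellW P (g⁻¹ * a) = w then hfun P f (a⁻¹ * k) else 0)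
      (fun e => ∑ β : P.B, if cellW P e = w then f (e⁻¹ * c * β) else 0) fun a => ?_, Finset.sum_comm]
    · refine Finset.sum_congr rfl fun β _ => ?_
      refine Fintype.sum_equiv (Equiv.mulRight (β : G)⁻¹) _ _ fun e => ?_
      rw [Equiv.coe_mulRight, show cellW P (e * (β : G)⁻¹) = cellW P e from cellW_mul_right P e (inv_mem β.2)]
      refine if_congr Iff.rfl ?_ rfl
      have h := hf (c * (β : G) * e⁻¹) e⁻¹
      rw [show e⁻¹ * (c * (β : G) * e⁻¹) * e⁻¹⁻¹ = e⁻¹ * c * β by group] at h
      rw [h]; congr 1; group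
    · simp only [Equiv.coe_mulLeft]
      by_cases h : cellW P (g⁻¹ * a) = w
      · rw [if_pos h, hfun]
        refine Finset.sum_congr rfl fun β _ => ?_
        refine Eq.trans ?_ (if_pos h).symm
        rw [hc]
        congr 1; group
      · simp [if_neg h]
  have h2 : (∑ v : G, if cellW P (v⁻¹ * k) = w then hfun P f (g⁻¹ * v) else 0) = ∑ β : P.B, T β := by
    rw [Fintype.sum_equiv ((Equiv.inv G).trans (Equiv.mulRight k))
      (fun v => if cellW P (v⁻¹ * k) = w then hfun P f (g⁻¹ * v) else 0)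
      (fun e => ∑ β : P.B, if cellW P e = w then f (c * e⁻¹ * β) else 0) fun v => ?_, Finset.sum_comm]
    · refine Finset.sum_congr rfl fun β _ => ?_
      refine Fintype.sum_equiv (Equiv.mulLeft (β : G)⁻¹) _ _ fun e => ?_
      rw [Equiv.coe_mulLeft, show cellW P ((β : G)⁻¹ * e) = cellW P e from cellW_mul_left P e (inv_mem β.2)]
      refine if_congr Iff.rfl ?_ rfl
      congr 1; group
    · simp only [Equiv.trans_apply, Equiv.inv_apply, Equiv.coe_mulRight]
      by_cases h : cellW P (v⁻¹ * k) = w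
      · rw [if_pos h, hfun]
        refine Finset.sum_congr rfl fun β _ => ?_
        refine Eq.trans ?_ (if_pos h).symm
        rw [hc]
        congr 1; group
      · simp [if_neg h]
  rw [h1, h2]

variable {q : ℕ} (hq : ∀ s ∈ P.S, (P.B.map (MulAut.conj s).toMonoidHom).relIndex P.B = q)

include hq

theorem card_cellW (w : Weyl P) :
    (univ.filter fun g => cellW P g = w).card = Nat.card P.B * q ^ len P w := by
  rw [← card_cell P hq w, ← Nat.card_prod, ← Fintype.card_subtype, ← Nat.card_eq_fintype_card]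
  refine Nat.card_congr (Equiv.trans (Equiv.subtypeEquivRight fun g => ?_)
    (QuotientGroup.preimageMkEquivSubgroupProdSet P.B (cell P w)))
  show cellW P g = w ↔ (g : G ⧸ P.B) ∈ cell P w
  rw [mk_mem_cell_iff]
  exact ⟨fun h => h ▸ mem_cellW P g, cellW_eq P⟩

/-- Summing over a cell a function invariant on the right under `B`. -/
theorem sum_cell {F : G → ℂ} (hF : ∀ g, ∀ b ∈ P.B, F (g * b) = F g) (a : G) :
    ∑ b : G, (if cellW P b = cellW P a then F b else 0) = (q : ℂ) ^ len P (cellW P a) * ∑ β : P.B, F (β * a) := by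
  have hT : ∀ b : G, cellW P b = cellW P a → ∑ β : P.B, F (β * b) = ∑ β : P.B, F (β * a) := by
    intro b hb
    have hbC : b ∈ C P (cellW P a) := hb ▸ mem_cellW P b
    have haC := mem_cellW P a
    rw [C, DoubleCoset.mem_doubleCoset] at hbC haC
    generalize (((cellW P a).out : P.N) : G) = n at hbC haC
    obtain ⟨x, hx, x', hx', e⟩ := hbC
    obtain ⟨z, hz, z', hz', e'⟩ := haC
    refine Fintype.sum_equiv (Equiv.mulRight (⟨x * z⁻¹, mul_mem hx (inv_mem hz)⟩ : P.B)) _ _ fun β => ?_
    show F ((β : G) * b) = F ((β : G) * (x * z⁻¹) * a)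
    have eb : (β : G) * b = (β : G) * (x * z⁻¹) * a * (z'⁻¹ * x') := by rw [e, e']; group
    rw [eb, hF _ _ (mul_mem (inv_mem hz') hx')]
  have h1 : ∑ b : G, (if cellW P b = cellW P a then ∑ β : P.B, F (β * b) else 0) =
      ((Nat.card P.B * q ^ len P (cellW P a) : ℕ) : ℂ) * ∑ β : P.B, F (β * a) := by
    rw [← Finset.sum_filter, Finset.sum_congr rfl fun b hb => hT b (Finset.mem_filter.1 hb).2,
      Finset.sum_const, card_cellW hq, nsmul_eq_mul]
  have h2 : ∑ b : G, (if cellW P b = cellW P a then ∑ β : P.B, F (β * b) else 0) =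
      (Nat.card P.B : ℂ) * ∑ b : G, (if cellW P b = cellW P a then F b else 0) := by
    rw [Nat.card_eq_fintype_card, ← Finset.card_univ, ← nsmul_eq_mul, ← Finset.sum_const,
      Finset.sum_congr rfl fun b (_ : b ∈ (univ : Finset G)) =>
        (show (if cellW P b = cellW P a then ∑ β : P.B, F (β * b) else 0) =
          ∑ β : P.B, if cellW P b = cellW P a then F (β * b) else 0 by split_ifs <;> simp),
      Finset.sum_comm]
    refine Finset.sum_congr rfl fun β _ => ?_
    refine Fintype.sum_equiv (Equiv.mulLeft (β : G)) _ _ fun b => ?_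
    rw [Equiv.coe_mulLeft, show cellW P ((β : G) * b) = cellW P b from cellW_mul_left P b β.2]
  rw [h1, Nat.cast_mul, Nat.cast_pow, mul_assoc] at h2
  exact (mul_left_cancel₀ (Nat.cast_ne_zero.2 Nat.card_pos.ne') h2).symm

variable [Fintype (Weyl P)]

/-- The averaging operator is the image of a class function. -/
theorem Mop_eq_theta (y : Weyl P → ℂ) :
    ∃ f : G → ℂ, IsClassFunction G f ∧ Mop (q : ℂ) (hasExchange P) y = theta P f := by
  set N := maxLen (BN.sigma P) (W := Weyl P)
  let Y : G → ℂ := fun c => y (cellW P c)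
  let f₀ : G → ℂ := fun x => ∑ g : G, Y (g⁻¹ * x * g)
  have hf₀ : IsClassFunction G f₀ := fun x h => by
    refine Fintype.sum_equiv (Equiv.mulLeft h⁻¹) _ _ fun g => ?_
    simp only [Equiv.coe_mulLeft]
    congr 1; group
  set B₀ : ℂ := (Nat.card P.B : ℂ)
  have hB : B₀ ≠ 0 := Nat.cast_ne_zero.2 Nat.card_pos.ne'
  refine ⟨((q : ℂ) ^ N / B₀ ^ 2) • f₀, isClassFunction_smul hf₀ _, Phi_injective P ?_⟩
  rw [Phi_Mop P hq, map_smul, map_smul]
  ext x z
  induction x using QuotientGroup.induction_on with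
  | H g =>
  induction z using QuotientGroup.induction_on with
  | H k =>
  rw [Matrix.smul_apply, Phi_theta hf₀, smul_eq_mul, div_mul_eq_mul_div, eq_div_iff (pow_ne_zero _ hB),
    Matrix.sum_apply, Finset.sum_mul]
  set c := g⁻¹ * k with hc
  have hentry : ∀ w : Weyl P, (adjC P w * Phi P y * (adjC P w)ᵀ) (g : G ⧸ P.B) (k : G ⧸ P.B) * B₀ ^ 2 =
      ∑ a : G, if cellW P a = w then ∑ b : G, (if cellW P b = w then Y (a⁻¹ * c * b) else 0) else 0 := by
    intro w
    simp only [Matrix.mul_apply, Matrix.transpose_apply, Finset.sum_mul]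
    rw [Finset.sum_comm]
    have hv : ∀ u : G ⧸ P.B, (∑ v : G ⧸ P.B, adjC P w (g : G ⧸ P.B) u * Phi P y u v * adjC P w (k : G ⧸ P.B) v * B₀ ^ 2) =
        B₀ * (adjC P w (g : G ⧸ P.B) u *
          ∑ b : G, Phi P y u (b : G ⧸ P.B) * adjC P w (k : G ⧸ P.B) (b : G ⧸ P.B)) := by
      intro u
      rw [sum_cosets (fun v => Phi P y u v * adjC P w (k : G ⧸ P.B) v), Finset.mul_sum, Finset.mul_sum,
        Finset.mul_sum]
      exact Finset.sum_congr rfl fun v _ => by ring
    rw [Finset.sum_congr rfl fun u _ => hv u, ← Finset.mul_sum,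
      ← sum_cosets (fun u => adjC P w (g : G ⧸ P.B) u *
          ∑ b : G, Phi P y u (b : G ⧸ P.B) * adjC P w (k : G ⧸ P.B) (b : G ⧸ P.B))]
    refine Fintype.sum_equiv (Equiv.mulLeft g⁻¹) _ _ fun a => ?_
    simp only [Equiv.coe_mulLeft, adjC_mk, ite_mul, one_mul, zero_mul]
    refine if_congr Iff.rfl ?_ rfl
    refine Fintype.sum_equiv (Equiv.mulLeft k⁻¹) _ _ fun b => ?_
    simp only [Equiv.coe_mulLeft, mul_ite, mul_one, mul_zero, Phi_mk, Y]
    refine if_congr Iff.rfl ?_ rfl
    congr 2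
    rw [hc]; group
  rw [Finset.sum_congr rfl fun w _ => by rw [Matrix.smul_apply, smul_eq_mul, mul_assoc, hentry w, Finset.mul_sum],
    Finset.sum_comm]
  simp only [mul_ite, mul_zero]
  simp only [Finset.sum_ite_eq, Finset.mem_univ, if_true, ← Finset.mul_sum]
  simp only [hfun, f₀, Finset.mul_sum]
  rw [Finset.sum_comm (s := (univ : Finset P.B))]
  refine Finset.sum_congr rfl fun a _ => ?_
  have hF : ∀ g' : G, ∀ b ∈ P.B, Y (a⁻¹ * c * (g' * b)) = Y (a⁻¹ * c * g') := fun g' b hb => by
    simp only [Y]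
    rw [← mul_assoc, cellW_mul_right P _ hb]
  rw [← Finset.mul_sum, sum_cell hq hF a, ← mul_assoc, ← pow_add, Nat.sub_add_cancel (wlen_le_maxLen _),
    Finset.mul_sum]
  refine Finset.sum_congr rfl fun β _ => ?_
  congr 2
  group

end Cfsg.Agent.HeckeW
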