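import Cfsg.Agent.Lib.HeckeW.Constituents
import Cfsg.Agent.Lib.HeckeU.Chev
import Cfsg.Agent.Lib.ChevOrder.Weyl

/-!
# Constituents of the permutation character on `G/B` of a Chevalley group
-/

set_option autoImplicit false

namespace Cfsg.Agent.HeckeW

open Cfsg Cfsg.Lie Cfsg.Lie.ChevalleyDatum Cfsg.Agent.Chev Cfsg.Agent.ChevSt Cfsg.Agent.ChevBN Cfsg.Agent.BN

variable {D : ChevalleyDatum} {Md : List (List ℤ)} {d : ℤ} (hD : Good D) (hR : Roots D Md d)
  {F : Type*} [Field F]

include hD hR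

theorem exists_weyl_equiv (M : CoxeterMatrix (Fin D.rank)) (hM : ChevOrder.CartanOK D M = true) :
    Nonempty (Weyl (chevRGD hD hR F).bnPair ≃* M.Group) := by
  set R := chevRGD hD hR F
  obtain ⟨-, φ, hsurj, hker, -⟩ := ChevOrder.exists_weylHom (F := F) hD hR M hM
  have hle : ∀ n : R.bnPair.N, ((n : R.G) : GL D.Idx F) ∈ D.monomialSubgroup F := fun n => by
    rw [← chev_N hD hR]; exact n.2
  let f : R.bnPair.N →* ↥(D.monomialSubgroup F) :=
    { toFun := fun n => ⟨((n : R.G) : GL D.Idx F), hle n⟩, map_one' := rfl, map_mul' := fun _ _ => rfl }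
  have hs : Function.Surjective (φ.comp f) := by
    intro w
    obtain ⟨⟨g, hg⟩, rfl⟩ := hsurj w
    have hgN : g ∈ R.N := by rw [chev_N hD hR]; exact hg
    exact ⟨⟨⟨g, R.N_le_G hgN⟩, hgN⟩, rfl⟩
  have hk : BN.T R.bnPair = (φ.comp f).ker := by
    ext n
    rw [BN.T, HeckeU.bnPair_inter hD hR, ← MonoidHom.comap_ker, hker]
    exact Iff.rfl
  exact ⟨(QuotientGroup.quotientMulEquivOfEq hk).trans (QuotientGroup.quotientKerEquivOfSurjective _ hs)⟩

theorem card_constituents_chev [Fintype F] (hS : ChevOrder.SimpleOK D) (M : CoxeterMatrix (Fin D.rank))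
    (hM : ChevOrder.CartanOK D M = true) :
    Nat.card {χ : IrrCharacter ↥(D.group F) //
      ∃ φ : ↥(D.group F) → ℂ, IsCharacter ↥(D.group F) φ ∧
        fixedPointCharacter ((D.borelSubgroup F).subgroupOf (D.group F)) = (χ : ↥(D.group F) → ℂ) + φ} =
      Nat.card (ConjClasses M.Group) := by
  set R := chevRGD hD hR F with hRdef
  have key : ∀ K : Subgroup (GL D.Idx F), R.G = K →
      Nat.card {χ : IrrCharacter K // ∃ φ : K → ℂ, IsCharacter K φ ∧
        fixedPointCharacter (R.B.subgroupOf K) = (χ : K → ℂ) + φ} = Nat.card (ConjClasses M.Group) := by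
    rintro _ rfl
    letI := Fintype.ofFinite R.G
    obtain ⟨e⟩ := exists_weyl_equiv hD hR M hM (F := F)
    rw [← R.bnPair_B]
    refine (card_constituents (fun s hs => HeckeU.relIndex_simple hD hR hS hs) Fintype.card_pos).trans ?_
    refine Nat.card_congr (Equiv.ofBijective (ConjClasses.map e.toMonoidHom) ⟨?_, ConjClasses.map_surjective e.surjective⟩)
    intro a b
    obtain ⟨x, rfl⟩ := ConjClasses.exists_rep a
    obtain ⟨y, rfl⟩ := ConjClasses.exists_rep b
    intro h
    have h' : ConjClasses.mk (e x) = ConjClasses.mk (e y) := h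
    have h'' := e.symm.toMonoidHom.map_isConj (ConjClasses.mk_eq_mk_iff_isConj.1 h')
    exact ConjClasses.mk_eq_mk_iff_isConj.2 (by simpa using h'')
  have h := key _ (chev_G hD hR)
  rw [chev_B hD hR] at h
  exact h

end Cfsg.Agent.HeckeW
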