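import Cfsg.Agent.Lib.HeckeW.Centre

/-!
# Constituents of the permutation character on `G/B` and classes of the Weyl group

* `isConstituent_iff` : `χ` occurs in `1_B^G` iff `∑_{β ∈ B} χ β ≠ 0`;
* `card_constituents` : their number is the number of classes of the Weyl group.
-/

set_option autoImplicit false

namespace Cfsg.Agent.HeckeW

open Cfsg Cfsg.Agent.BN Cfsg.Agent.Char Finset
open scoped Classical ComplexConjugate

variable {G : Type*} [Group G] [Fintype G] {P : Cfsg.BNPair G}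

omit [Fintype G] in
/-- For a representation on `ℂ^n`: no fixed vectors under `B` kills the coset sums. -/
theorem hfun_eq_zero [Fintype G] {χ : G → ℂ} (hχ : IsIrrCharacter G χ) (h0 : ∑ β : P.B, χ β = 0) (c : G) :
    hfun P χ c = 0 := by
  obtain ⟨n, ρ, -, rfl⟩ := hχ
  set E := HeckeU.avg ρ P.B with hE
  have hidem : IsIdempotentElem E := HeckeU.avg_idem ρ P.B
  have htr : LinearMap.trace ℂ (Fin n → ℂ) E = 0 := by
    rw [hE, HeckeU.avg, map_smul, map_sum, show (∑ β : P.B, LinearMap.trace ℂ (Fin n → ℂ) (ρ β)) = 0 from h0,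
      smul_zero]
  have hp : LinearMap.IsProj (LinearMap.range E) E :=
    ⟨fun v => ⟨v, rfl⟩, by rintro _ ⟨v, rfl⟩; exact LinearMap.congr_fun hidem v⟩
  rw [hp.trace, Nat.cast_eq_zero, Submodule.finrank_eq_zero, LinearMap.range_eq_bot] at htr
  rw [hE, HeckeU.avg, smul_eq_zero] at htr
  have hsum : ∑ β : P.B, ρ β = 0 :=
    htr.resolve_left (inv_ne_zero (Nat.cast_ne_zero.2 Nat.card_pos.ne'))
  simp only [hfun, Representation.character, map_mul]
  rw [← map_sum, ← Finset.mul_sum, hsum, mul_zero, map_zero]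

/-- The constituents of the permutation character. -/
theorem isConstituent_iff (χ : IrrCharacter G) :
    (∃ φ : G → ℂ, IsCharacter G φ ∧ fixedPointCharacter P.B = (χ : G → ℂ) + φ) ↔
      ∑ β : P.B, (χ : G → ℂ) β ≠ 0 := by
  have hπ : IsCharacter G (fixedPointCharacter P.B) := isCharacter_fixedPoints _
  letI : Fintype (IrrCharacter G) := Fintype.ofFinite _
  have hin : classInner (fixedPointCharacter P.B) (χ : G → ℂ) =
      (Nat.card P.B : ℂ)⁻¹ * conj (∑ β : P.B, (χ : G → ℂ) β) := by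
    have e : fixedPointCharacter P.B = indFun P.B (1 : P.B → ℂ) := by
      funext g; rw [indFun_one_eq_fixedPoints]; rfl
    rw [e, frobenius_reciprocity P.B _ (IsIrrCharacter.isClassFunction χ.2)]
    simp [classInner, map_sum]
  have hB : (Nat.card P.B : ℂ)⁻¹ ≠ 0 := inv_ne_zero (Nat.cast_ne_zero.2 Nat.card_pos.ne')
  have key : classInner (fixedPointCharacter P.B) (χ : G → ℂ) ≠ 0 ↔ ∑ β : P.B, (χ : G → ℂ) β ≠ 0 := by
    rw [hin, mul_ne_zero_iff, map_ne_zero]
    exact ⟨fun h => h.2, fun h => ⟨hB, h⟩⟩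
  rw [← key]
  constructor
  · rintro ⟨φ, hφ, e⟩
    obtain ⟨m, -, hm⟩ := IsCharacter.decompose hφ
    rw [e, classInner_add_left, classInner_irr_self χ.2, hm χ, ← Nat.cast_one, ← Nat.cast_add,
      Nat.cast_ne_zero]
    omega
  · intro hne
    obtain ⟨m, hsum, hm⟩ := IsCharacter.decompose hπ
    rw [hm χ, Nat.cast_ne_zero] at hne
    refine ⟨∑ ψ : IrrCharacter G, ((if ψ = χ then m ψ - 1 else m ψ : ℕ) : ℂ) • (ψ : G → ℂ),
      IsCharacter.sum _ fun ψ _ => IsCharacter.natCast_smul (IsIrrCharacter.isCharacter ψ.2) _, ?_⟩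
    rw [hsum, ← Finset.add_sum_erase _ _ (Finset.mem_univ χ),
      ← Finset.add_sum_erase (a := χ) (s := univ) _ (Finset.mem_univ χ), ← add_assoc, if_pos rfl]
    congr 1
    · conv_rhs => arg 1; rw [← one_smul ℂ (χ : G → ℂ)]
      rw [← add_smul, ← Nat.cast_one, ← Nat.cast_add]
      congr 2; omega
    · exact Finset.sum_congr rfl fun ψ hψ => by rw [if_neg (Finset.ne_of_mem_erase hψ)]

/-- A combination of constituents killed by the coset sums is trivial. -/
theorem coeff_eq_zero {F : G → ℂ} (hF : IsClassFunction G F) (h0 : ∀ c, hfun P F c = 0) {χ : IrrCharacter G}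
    (hS : ∑ β : P.B, (χ : G → ℂ) β ≠ 0) : classInner F (χ : G → ℂ) = 0 := by
  obtain ⟨n, ρ, hρ, e⟩ := χ.2
  haveI := hρ
  have hF' : IsClassFunction G fun x => F x⁻¹ := fun g h => by
    show F (h * g * h⁻¹)⁻¹ = F g⁻¹
    rw [show (h * g * h⁻¹)⁻¹ = h * g⁻¹ * h⁻¹ by group, hF]
  set lam := (∑ g, F g⁻¹ * ρ.character g) / (Module.finrank ℂ (Fin n → ℂ) : ℂ) with hlam
  have hop := groupSumOp_eq_smul ρ hF'
  have hpt : ∀ β : P.B, ∑ x : G, F x⁻¹ * ρ.character ((β : G) * x) = lam * ρ.character β := by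
    intro β
    have h1 := congrArg (fun T => LinearMap.trace ℂ (Fin n → ℂ) (ρ (β : G) * T)) hop
    simp only [groupSumOp, Finset.mul_sum, mul_smul_comm, map_sum, map_smul, ← Module.End.one_eq_id,
      mul_one, ← map_mul, smul_eq_mul] at h1
    simp only [lam, Representation.character, Finset.sum_div, Finset.sum_mul] at h1 ⊢
    exact h1
  have h1 : ∑ β : P.B, ∑ x : G, F x⁻¹ * ρ.character ((β : G) * x) = 0 := by
    rw [show ∑ β : P.B, ∑ x : G, F x⁻¹ * ρ.character ((β : G) * x) =
        ∑ c : G, hfun P F c * ρ.character c⁻¹ by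
      simp only [hfun, Finset.sum_mul]
      rw [Finset.sum_comm (s := (univ : Finset G))]
      refine Finset.sum_congr rfl fun β _ => ?_
      refine Fintype.sum_equiv ((Equiv.mulLeft (β : G)).trans (Equiv.inv G)) _ _ fun x => ?_
      simp only [Equiv.trans_apply, Equiv.coe_mulLeft, Equiv.inv_apply, inv_inv]
      congr 2
      group]
    exact Finset.sum_eq_zero fun c _ => by rw [h0, zero_mul]
  rw [Finset.sum_congr rfl fun β _ => hpt β, ← Finset.mul_sum, e, mul_eq_zero] at h1
  have hl := h1.resolve_right hS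
  rw [hlam, div_eq_zero_iff] at hl
  have hd : (Module.finrank ℂ (Fin n → ℂ) : ℂ) ≠ 0 := by
    have := nontrivial_of_isIrreducible ρ
    exact Nat.cast_ne_zero.2 Module.finrank_pos.ne'
  have hl' := hl.resolve_right hd
  rw [classInner, mul_eq_zero]
  right
  rw [← hl', ← e]
  refine Fintype.sum_equiv (Equiv.inv G) _ _ fun g => ?_
  simp only [Equiv.inv_apply, inv_inv]
  rw [IsCharacter.apply_inv (isCharacter_character ρ)]

variable {q : ℕ} (hq : ∀ s ∈ P.S, (P.B.map (MulAut.conj s).toMonoidHom).relIndex P.B = q)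

include hq

/-- The constituents are as many as the classes of the Weyl group. -/
theorem card_constituents (hq0 : 0 < q) :
    Nat.card {χ : IrrCharacter G //
      ∃ φ : G → ℂ, IsCharacter G φ ∧ fixedPointCharacter P.B = (χ : G → ℂ) + φ} =
      Nat.card (ConjClasses (Weyl P)) := by
  letI := Fintype.ofFinite (Weyl P)
  letI : Fintype (IrrCharacter G) := Fintype.ofFinite _
  let I := {χ : IrrCharacter G // ∑ β : P.B, (χ : G → ℂ) β ≠ 0}
  rw [Nat.card_congr (Equiv.subtypeEquivRight isConstituent_iff)]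
  let Θ : (I → ℂ) →ₗ[ℂ] (Weyl P → ℂ) :=
    ∑ i : I, (LinearMap.proj i).smulRight (theta P (i.1 : G → ℂ))
  have hΘ : ∀ a, Θ a = theta P (∑ i : I, a i • (i.1 : G → ℂ)) := fun a => by
    simp [Θ, map_sum, LinearMap.sum_apply]
  have hcl : ∀ a : I → ℂ, IsClassFunction G (∑ i : I, a i • (i.1 : G → ℂ)) := fun a =>
    isClassFunction_sum _ fun i _ => isClassFunction_smul (IsIrrCharacter.isClassFunction i.1.2) _
  have hinj : Function.Injective Θ := by
    rw [← LinearMap.ker_eq_bot, eq_bot_iff]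
    intro a ha
    rw [LinearMap.mem_ker, hΘ] at ha
    refine (Submodule.mem_bot ℂ).2 (funext fun j => ?_)
    have h0 : ∀ c, hfun P (∑ i : I, a i • (i.1 : G → ℂ)) c = 0 := fun c => by
      rw [← theta_cellW (hcl a), ha]; rfl
    have h1 := coeff_eq_zero (hcl a) h0 j.2
    rw [classInner_sum_left, Finset.sum_eq_single j] at h1
    · rwa [classInner_smul_left, classInner_irr_self j.1.2, mul_one] at h1
    · intro i _ hij
      rw [classInner_smul_left, classInner_irr_of_ne i.1.2 j.1.2 fun e => hij (Subtype.ext (Subtype.ext e)),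
        mul_zero]
    · intro h; exact absurd (Finset.mem_univ j) h
  have hrange : LinearMap.range Θ = LinearMap.ker (Kop (σ := BN.sigma P) (q : ℂ)) := by
    refine le_antisymm ?_ ?_
    · rintro _ ⟨a, rfl⟩
      rw [mem_ker_Kop_iff P hq, hΘ]
      exact fun s => adjC_comm_theta (hcl a) s
    · rw [show ((q : ℕ) : ℂ) = (((q : ℝ) : ℝ) : ℂ) by norm_num,
        ker_Kop_eq_range (hasExchange P) (q : ℝ) (Nat.cast_pos.2 hq0)]
      rintro _ ⟨y, rfl⟩
      rw [show (((q : ℝ) : ℝ) : ℂ) = ((q : ℕ) : ℂ) by norm_num]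
      obtain ⟨f, hf, e⟩ := Mop_eq_theta hq y
      refine ⟨fun i => classInner f (i.1 : G → ℂ), ?_⟩
      rw [hΘ, e]
      conv_rhs => rw [classFunction_eq_sum hf]
      rw [map_sum, map_sum, ← Finset.sum_filter_add_sum_filter_not univ
        (fun χ : IrrCharacter G => ∑ β : P.B, (χ : G → ℂ) β ≠ 0)
        (fun χ => theta P (classInner f (χ : G → ℂ) • (χ : G → ℂ))),
        Finset.sum_eq_zero (s := univ.filter fun χ : IrrCharacter G => ¬∑ β : P.B, (χ : G → ℂ) β ≠ 0)
          (fun χ hχ => ?_), add_zero,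
        Finset.sum_subtype (univ.filter fun χ : IrrCharacter G => ∑ β : P.B, (χ : G → ℂ) β ≠ 0)
          (p := fun χ : IrrCharacter G => ∑ β : P.B, (χ : G → ℂ) β ≠ 0) (by simp)]
      rw [map_smul, show theta P (χ : G → ℂ) = 0 from funext fun w =>
        hfun_eq_zero χ.2 (not_not.1 (Finset.mem_filter.1 hχ).2) _, smul_zero]
  have h := LinearMap.finrank_range_of_inj hinj
  rw [hrange, Module.finrank_fintype_fun_eq_card, show ((q : ℕ) : ℂ) = (((q : ℝ) : ℝ) : ℂ) by norm_num,
    finrank_ker_Kop (hasExchange P) (Nat.cast_pos.2 hq0)] at h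
  rw [Nat.card_eq_fintype_card (α := I), h]

end Cfsg.Agent.HeckeW
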