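import Cfsg.Agent.Lib.BN.Descents

/-!
# The generic Hecke algebra of an exchange group, as operators on functions

For a commutative ring, a parameter `t` and an exchange group `(W, σ)`: the multiplications `Lop`, `Rop`
by the generators on `W → R`, their commutation, the products `Lw`, `Rw` along reduced words, and the
averaging operator `Mop = ∑_w t^(N - l w) Lw Rw`, which maps into the centre (`Kop_comp_Mop`).
-/

set_option autoImplicit false

namespace Cfsg.Agent.HeckeW

open Cfsg.Agent.BN Finset

variable {S W : Type*} [Group W] (σ : S → W) {R : Type*} [CommRing R] (t : R)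

/-- Left multiplication by the generator `s`. -/
noncomputable def Lop (s : S) : Module.End R (W → R) where
  toFun z u := if wlen σ (σ s * u) < wlen σ u then z (σ s * u) + (t - 1) * z u else t * z (σ s * u)
  map_add' a b := by funext u; simp only [Pi.add_apply]; split_ifs <;> ring
  map_smul' c a := by funext u; simp only [Pi.smul_apply, smul_eq_mul, RingHom.id_apply]; split_ifs <;> ring

/-- Right multiplication by the generator `s`. -/
noncomputable def Rop (s : S) : Module.End R (W → R) where
  toFun z u := if wlen σ (u * σ s) < wlen σ u then z (u * σ s) + (t - 1) * z u else t * z (u * σ s)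
  map_add' a b := by funext u; simp only [Pi.add_apply]; split_ifs <;> ring
  map_smul' c a := by funext u; simp only [Pi.smul_apply, smul_eq_mul, RingHom.id_apply]; split_ifs <;> ring

theorem Lop_apply (s : S) (z : W → R) (u : W) : Lop σ t s z u =
    if wlen σ (σ s * u) < wlen σ u then z (σ s * u) + (t - 1) * z u else t * z (σ s * u) := rfl

theorem Rop_apply (s : S) (z : W → R) (u : W) : Rop σ t s z u =
    if wlen σ (u * σ s) < wlen σ u then z (u * σ s) + (t - 1) * z u else t * z (u * σ s) := rfl

/-- Products along a word. -/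
noncomputable def Lprod (l : List S) : Module.End R (W → R) := (l.map (Lop σ t)).prod

/-- Products along a word, on the right. -/
noncomputable def Rprod (l : List S) : Module.End R (W → R) := (l.map (Rop σ t)).prod

@[simp] theorem Lprod_nil : Lprod σ t [] = 1 := rfl
@[simp] theorem Rprod_nil : Rprod σ t [] = 1 := rfl
@[simp] theorem Lprod_cons (s : S) (l : List S) : Lprod σ t (s :: l) = Lop σ t s * Lprod σ t l := rfl
@[simp] theorem Rprod_cons (s : S) (l : List S) : Rprod σ t (s :: l) = Rop σ t s * Rprod σ t l := rfl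

variable {σ} (h : HasExchange σ)

include h

theorem wlen_right_cases (s : S) (u : W) :
    wlen σ (u * σ s) = wlen σ u + 1 ∨ wlen σ (u * σ s) + 1 = wlen σ u := by
  have e : wlen σ (σ s * u⁻¹) = wlen σ (u * σ s) := by
    rw [← wlen_inv h.sq h.gen, h.mul_inv_sigma, inv_inv]
  have := h.wlen_sigma_mul_cases s u⁻¹
  rw [e, wlen_inv h.sq h.gen] at this
  exact this

/-- The exchange lemma for a left and a right generator. -/
theorem eq_of_square_up {s r : S} {u : W} (hs : wlen σ (σ s * u) = wlen σ u + 1)
    (hr : wlen σ (u * σ r) = wlen σ u + 1) (hd : wlen σ (σ s * u * σ r) = wlen σ u) :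
    σ s * u = u * σ r := by
  obtain ⟨l, hl, rfl⟩ := exists_isReduced h.sq h.gen u
  rw [BN.IsReduced] at hl
  have hred : IsReduced σ (l ++ [r]) := by
    rw [BN.IsReduced, wprod_append, wprod_cons, wprod_nil, mul_one, hr, hl]
    simp
  have hp : wprod σ (l ++ [r]) = wprod σ l * σ r := by simp
  obtain ⟨i, hi, e⟩ := h.exch (l ++ [r]) s hred (by
    rw [hp, ← mul_assoc, hd, hl]; simp)
  rw [hp, ← mul_assoc] at e
  by_cases hil : i < l.length
  · exfalso
    rw [List.eraseIdx_append_of_lt_length hil, wprod_append, wprod_cons, wprod_nil, mul_one] at e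
    have h1 := wlen_le' (σ := σ) (l.eraseIdx i) (mul_right_cancel e).symm
    rw [List.length_eraseIdx_of_lt hil] at h1
    omega
  · rw [List.eraseIdx_append_of_length_le (not_lt.1 hil)] at e
    have : i = l.length := by simp at hi; omega
    subst this
    simp at e
    calc σ s * wprod σ l = σ s * wprod σ l * σ r * σ r := (mul_sigma_cancel h.sq r _).symm
      _ = wprod σ l * σ r := by rw [e]

theorem eq_of_square {s r : S} {u : W} (hd : wlen σ (σ s * u * σ r) = wlen σ u)
    (hbc : wlen σ (σ s * u) = wlen σ (u * σ r)) : σ s * u = u * σ r := by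
  rcases h.wlen_sigma_mul_cases s u with hs | hs
  · exact eq_of_square_up h hs (by omega) hd
  · have e1 : σ s * (σ s * u) = u := sigma_mul_cancel h.sq s u
    have key := eq_of_square_up h (s := s) (r := r) (u := σ s * u) (by rw [e1]; omega) (by omega)
      (by rw [e1]; omega)
    rw [e1] at key
    calc σ s * u = σ s * u * σ r * σ r := (mul_sigma_cancel h.sq r _).symm
      _ = u * σ r := by rw [← key]

theorem Lop_Rop (s r : S) : Lop σ t s * Rop σ t r = Rop σ t r * Lop σ t s := by
  refine LinearMap.ext fun z => funext fun u => ?_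
  simp only [Module.End.mul_apply, Lop_apply, Rop_apply]
  have hb := h.wlen_sigma_mul_cases s u
  have hc := wlen_right_cases h r u
  have hd := wlen_right_cases h r (σ s * u)
  have hd' := h.wlen_sigma_mul_cases s (u * σ r)
  rw [← mul_assoc] at hd' ⊢
  by_cases hsq : wlen σ (σ s * u * σ r) = wlen σ u ∧ wlen σ (σ s * u) = wlen σ (u * σ r)
  · have e := eq_of_square h hsq.1 hsq.2
    have e2 : σ s * u * σ r = u := by rw [e, mul_sigma_cancel h.sq]
    rw [e2, e]
  · split_ifs <;> first | (exfalso; omega) | ring1

theorem Rop_Lprod (r : S) (l : List S) : Rop σ t r * Lprod σ t l = Lprod σ t l * Rop σ t r := by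
  induction l with
  | nil => simp
  | cons s l ih =>
    rw [Lprod_cons, ← mul_assoc, ← Lop_Rop t h, mul_assoc, ih, mul_assoc]

theorem Lop_Rprod (s : S) (l : List S) : Lop σ t s * Rprod σ t l = Rprod σ t l * Lop σ t s := by
  induction l with
  | nil => simp
  | cons r l ih =>
    rw [Rprod_cons, ← mul_assoc, Lop_Rop t h, mul_assoc, ih, mul_assoc]

variable [DecidableEq W]

theorem Lop_single {s : S} {w : W} (hw : wlen σ w < wlen σ (σ s * w)) :
    Lop σ t s (Pi.single w 1) = Pi.single (σ s * w) 1 := by
  funext u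
  rw [Lop_apply]
  by_cases hu : u = σ s * w
  · subst hu
    rw [sigma_mul_cancel h.sq, if_pos hw, Pi.single_eq_same, Pi.single_eq_of_ne, Pi.single_eq_same]
    · ring
    · exact fun e => by rw [e] at hw; exact lt_irrefl _ hw
  · have hne : σ s * u ≠ w := fun e => hu (by rw [← e, sigma_mul_cancel h.sq])
    rw [Pi.single_eq_of_ne hu, Pi.single_eq_of_ne hne]
    by_cases huw : u = w
    · subst huw
      rw [if_neg (by omega)]
      ring
    · rw [Pi.single_eq_of_ne huw]; simp

theorem Rop_single {s : S} {w : W} (hw : wlen σ w < wlen σ (w * σ s)) :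
    Rop σ t s (Pi.single w 1) = Pi.single (w * σ s) 1 := by
  funext u
  rw [Rop_apply]
  by_cases hu : u = w * σ s
  · subst hu
    rw [mul_sigma_cancel h.sq, if_pos hw, Pi.single_eq_same, Pi.single_eq_of_ne, Pi.single_eq_same]
    · ring
    · exact fun e => by rw [e] at hw; exact lt_irrefl _ hw
  · have hne : u * σ s ≠ w := fun e => hu (by rw [← e, mul_sigma_cancel h.sq])
    rw [Pi.single_eq_of_ne hu, Pi.single_eq_of_ne hne]
    by_cases huw : u = w
    · subst huw
      rw [if_neg (by omega)]
      ring
    · rw [Pi.single_eq_of_ne huw]; simp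

theorem Lprod_single {l : List S} (hl : IsReduced σ l) :
    Lprod σ t l (Pi.single 1 1) = Pi.single (wprod σ l) 1 := by
  induction l with
  | nil => simp
  | cons s l ih =>
    have ht := hl.tail h.sq h.gen
    rw [Lprod_cons, Module.End.mul_apply, ih ht, wprod_cons]
    refine Lop_single t h ?_
    rw [BN.IsReduced, wprod_cons, List.length_cons] at hl
    rw [BN.IsReduced] at ht
    omega

theorem Rprod_single {l : List S} (hl : IsReduced σ l) :
    Rprod σ t l (Pi.single 1 1) = Pi.single (wprod σ l)⁻¹ 1 := by
  induction l with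
  | nil => simp
  | cons s l ih =>
    have ht := hl.tail h.sq h.gen
    rw [Rprod_cons, Module.End.mul_apply, ih ht, wprod_cons, mul_inv_rev, sigma_inv h.sq]
    refine Rop_single t h ?_
    rw [← h.mul_inv_sigma, wlen_inv h.sq h.gen, wlen_inv h.sq h.gen]
    rw [BN.IsReduced, wprod_cons, List.length_cons] at hl
    rw [BN.IsReduced] at ht
    omega

variable [Fintype W]

theorem ext_of_comm_R {A A' : Module.End R (W → R)} (hA : ∀ l, A * Rprod σ t l = Rprod σ t l * A)
    (hA' : ∀ l, A' * Rprod σ t l = Rprod σ t l * A') (h1 : A (Pi.single 1 1) = A' (Pi.single 1 1)) :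
    A = A' := by
  refine LinearMap.pi_ext fun w x => ?_
  obtain ⟨l, hl, e⟩ := exists_isReduced h.sq h.gen w⁻¹
  have hw : Pi.single w x = x • Rprod σ t l (Pi.single 1 1) := by
    rw [Rprod_single t h hl, e, inv_inv, ← Pi.single_smul, smul_eq_mul, mul_one]
  rw [hw, map_smul, map_smul, ← Module.End.mul_apply, hA, Module.End.mul_apply, h1,
    ← Module.End.mul_apply, ← hA', Module.End.mul_apply]

theorem ext_of_comm_L {A A' : Module.End R (W → R)} (hA : ∀ l, A * Lprod σ t l = Lprod σ t l * A)
    (hA' : ∀ l, A' * Lprod σ t l = Lprod σ t l * A') (h1 : A (Pi.single 1 1) = A' (Pi.single 1 1)) :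
    A = A' := by
  refine LinearMap.pi_ext fun w x => ?_
  obtain ⟨l, hl, e⟩ := exists_isReduced h.sq h.gen w
  have hw : Pi.single w x = x • Lprod σ t l (Pi.single 1 1) := by
    rw [Lprod_single t h hl, e, ← Pi.single_smul, smul_eq_mul, mul_one]
  rw [hw, map_smul, map_smul, ← Module.End.mul_apply, hA, Module.End.mul_apply, h1,
    ← Module.End.mul_apply, ← hA', Module.End.mul_apply]

omit [DecidableEq W] [Fintype W] in
theorem Lprod_Rprod (l k : List S) : Lprod σ t l * Rprod σ t k = Rprod σ t k * Lprod σ t l := by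
  induction l with
  | nil => simp
  | cons s l ih => rw [Lprod_cons, mul_assoc, ih, ← mul_assoc, Lop_Rprod t h, mul_assoc]

theorem Lprod_congr {l k : List S} (hl : IsReduced σ l) (hk : IsReduced σ k)
    (e : wprod σ l = wprod σ k) : Lprod σ t l = Lprod σ t k :=
  ext_of_comm_R t h (Lprod_Rprod t h l) (Lprod_Rprod t h k)
    (by rw [Lprod_single t h hl, Lprod_single t h hk, e])

theorem Rprod_congr {l k : List S} (hl : IsReduced σ l) (hk : IsReduced σ k)
    (e : wprod σ l = wprod σ k) : Rprod σ t l = Rprod σ t k :=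
  ext_of_comm_L t h (fun m => (Lprod_Rprod t h m l).symm) (fun m => (Lprod_Rprod t h m k).symm)
    (by rw [Rprod_single t h hl, Rprod_single t h hk, e])

omit [DecidableEq W] [Fintype W]

/-- A chosen reduced word. -/
noncomputable def redWord (w : W) : List S := (exists_isReduced h.sq h.gen w).choose

theorem redWord_red (w : W) : IsReduced σ (redWord h w) :=
  (exists_isReduced h.sq h.gen w).choose_spec.1

theorem redWord_prod (w : W) : wprod σ (redWord h w) = w :=
  (exists_isReduced h.sq h.gen w).choose_spec.2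

theorem redWord_one : redWord h (1 : W) = [] := by
  have h1 : wlen σ (wprod σ (redWord h 1)) = (redWord h 1).length := redWord_red h 1
  rw [redWord_prod, wlen_one] at h1
  exact List.length_eq_zero_iff.1 h1.symm

variable [DecidableEq W] [Fintype W]

theorem red_cons {s : S} {w : W} (hw : wlen σ w < wlen σ (σ s * w)) :
    IsReduced σ (s :: redWord h w) ∧ wprod σ (s :: redWord h w) = σ s * w := by
  refine ⟨?_, by rw [wprod_cons, redWord_prod]⟩
  have h1 : wlen σ (wprod σ (redWord h w)) = (redWord h w).length := redWord_red h w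
  rw [redWord_prod] at h1
  rw [BN.IsReduced, wprod_cons, redWord_prod, List.length_cons]
  have := h.wlen_sigma_mul_cases s w
  omega

theorem Lprod_redWord_mul {s : S} {w : W} (hw : wlen σ w < wlen σ (σ s * w)) :
    Lprod σ t (redWord h (σ s * w)) = Lop σ t s * Lprod σ t (redWord h w) := by
  rw [← Lprod_cons]
  exact Lprod_congr t h (redWord_red h _) (red_cons h hw).1 (by rw [redWord_prod, (red_cons h hw).2])

theorem Rprod_redWord_mul {s : S} {w : W} (hw : wlen σ w < wlen σ (σ s * w)) :
    Rprod σ t (redWord h (σ s * w)) = Rop σ t s * Rprod σ t (redWord h w) := by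
  rw [← Rprod_cons]
  exact Rprod_congr t h (redWord_red h _) (red_cons h hw).1 (by rw [redWord_prod, (red_cons h hw).2])

omit [DecidableEq W]

omit h in
variable (σ) in
/-- An upper bound of the lengths. -/
noncomputable def maxLen : ℕ := (univ : Finset W).sup (wlen σ)

omit h in
theorem wlen_le_maxLen (w : W) : wlen σ w ≤ maxLen σ := Finset.le_sup (Finset.mem_univ w)

/-- The averaging operator. -/
noncomputable def Mop : Module.End R (W → R) :=
  ∑ w : W, t ^ (maxLen σ - wlen σ w) • (Lprod σ t (redWord h w) * Rprod σ t (redWord h w))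

omit [Fintype W] in
/-- The quadratic relation. -/
theorem Lop_sq (s : S) : Lop σ t s * Lop σ t s = t • 1 + (t - 1) • Lop σ t s := by
  refine LinearMap.ext fun z => funext fun u => ?_
  simp only [Module.End.mul_apply, LinearMap.add_apply, LinearMap.smul_apply, Module.End.one_apply,
    Pi.add_apply, Pi.smul_apply, smul_eq_mul, Lop_apply, sigma_mul_cancel h.sq]
  have := h.wlen_sigma_mul_cases s u
  split_ifs <;> first | (exfalso; omega) | ring1

omit [Fintype W] in
/-- The quadratic relation on the right. -/
theorem Rop_sq (s : S) : Rop σ t s * Rop σ t s = t • 1 + (t - 1) • Rop σ t s := by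
  refine LinearMap.ext fun z => funext fun u => ?_
  simp only [Module.End.mul_apply, LinearMap.add_apply, LinearMap.smul_apply, Module.End.one_apply,
    Pi.add_apply, Pi.smul_apply, smul_eq_mul, Rop_apply, mul_sigma_cancel h.sq]
  have := wlen_right_cases h s u
  split_ifs <;> first | (exfalso; omega) | ring1

variable [DecidableEq W]

/-- The values of `Mop` are central. -/
theorem Lop_Mop (s : S) : Lop σ t s * Mop t h = Rop σ t s * Mop t h := by
  classical
  set L := Lop σ t s
  set Rs := Rop σ t s
  set up : Finset W := univ.filter fun w => wlen σ w < wlen σ (σ s * w) with hup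
  set T : W → Module.End R (W → R) := fun w => Lprod σ t (redWord h w) * Rprod σ t (redWord h w)
  have hT : ∀ w ∈ up, T (σ s * w) = L * Rs * T w := by
    intro w hw
    have hw' := (Finset.mem_filter.1 hw).2
    simp only [T, L, Rs]
    rw [Lprod_redWord_mul t h hw', Rprod_redWord_mul t h hw', mul_assoc, ← mul_assoc (Lprod σ t _),
      ← Rop_Lprod t h, mul_assoc, mul_assoc]
  have hdown : ∑ w ∈ univ.filter (fun w => ¬ wlen σ w < wlen σ (σ s * w)),
      t ^ (maxLen σ - wlen σ w) • T w = ∑ w ∈ up, t ^ (maxLen σ - wlen σ (σ s * w)) • T (σ s * w) := by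
    refine Finset.sum_bij' (fun w _ => σ s * w) (fun w _ => σ s * w) ?_ ?_
      (fun w _ => sigma_mul_cancel h.sq s w) (fun w _ => sigma_mul_cancel h.sq s w) ?_
    · intro w hw
      have := h.wlen_sigma_mul_cases s w
      simp only [hup, Finset.mem_filter, Finset.mem_univ, true_and, sigma_mul_cancel h.sq] at hw ⊢
      omega
    · intro w hw
      simp only [hup, Finset.mem_filter, Finset.mem_univ, true_and, sigma_mul_cancel h.sq] at hw ⊢
      omega
    · intro w _; rw [sigma_mul_cancel h.sq]
  have hM : Mop t h = ∑ w ∈ up, (t ^ (maxLen σ - wlen σ w - 1) • ((t • (1 : Module.End R (W → R)) + L * Rs) * T w)) := by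
    rw [Mop, ← Finset.sum_filter_add_sum_filter_not univ (fun w => wlen σ w < wlen σ (σ s * w)), hdown,
      ← hup, ← Finset.sum_add_distrib]
    refine Finset.sum_congr rfl fun w hw => ?_
    have hw' := (Finset.mem_filter.1 hw).2
    have hN := wlen_le_maxLen (σ := σ) (σ s * w)
    have hl : wlen σ (σ s * w) = wlen σ w + 1 := by
      have := h.wlen_sigma_mul_cases s w; omega
    obtain ⟨k, hk⟩ : ∃ k, maxLen σ - wlen σ w = k + 1 := ⟨maxLen σ - wlen σ w - 1, by omega⟩
    rw [hT w hw, hk, show maxLen σ - wlen σ (σ s * w) = k by omega, show k + 1 - 1 = k from rfl, add_mul,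
      smul_mul_assoc, one_mul, smul_add, smul_smul, pow_succ]
  rw [hM, Finset.mul_sum, Finset.mul_sum]
  refine Finset.sum_congr rfl fun w _ => ?_
  rw [mul_smul_comm, mul_smul_comm, ← mul_assoc L, ← mul_assoc Rs]
  congr 2
  have hc : L * Rs = Rs * L := Lop_Rop t h s s
  have hLL : L * (L * Rs) = t • Rs + (t - 1) • (L * Rs) := by
    rw [← mul_assoc, Lop_sq t h, add_mul, smul_mul_assoc, smul_mul_assoc, one_mul]
  have hRR : Rs * (L * Rs) = t • L + (t - 1) • (L * Rs) := by
    rw [← mul_assoc, ← hc, mul_assoc, Rop_sq t h, mul_add, mul_smul_comm, mul_smul_comm, mul_one]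
  rw [mul_add, mul_add, hLL, hRR, mul_smul_comm, mul_smul_comm, mul_one, mul_one]
  abel

/-- The commutators with the generators. -/
noncomputable def Kop : (W → R) →ₗ[R] (S × W → R) :=
  LinearMap.pi fun p : S × W => LinearMap.proj p.2 ∘ₗ (Lop σ t p.1 - Rop σ t p.1)

omit h [Fintype W] [DecidableEq W] in
theorem Kop_eq_zero_iff {z : W → R} : Kop (σ := σ) t z = 0 ↔ ∀ s, Lop σ t s z = Rop σ t s z := by
  simp only [Kop, funext_iff, Prod.forall, LinearMap.pi_apply, LinearMap.coe_comp, Function.comp_apply,
    LinearMap.proj_apply, LinearMap.sub_apply, Pi.sub_apply, Pi.zero_apply, sub_eq_zero]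

theorem Kop_comp_Mop : Kop (σ := σ) t ∘ₗ Mop t h = 0 :=
  LinearMap.ext fun z => (Kop_eq_zero_iff t).2 fun s => LinearMap.congr_fun (Lop_Mop t h s) z

omit h [Fintype W] [DecidableEq W]

section natural

variable {R' : Type*} [CommRing R'] (φ : R →+* R')

theorem Lop_map (s : S) (z : W → R) : φ ∘ Lop σ t s z = Lop σ (φ t) s (φ ∘ z) := by
  funext u
  simp only [Function.comp_apply, Lop_apply]
  split_ifs <;> simp

theorem Rop_map (s : S) (z : W → R) : φ ∘ Rop σ t s z = Rop σ (φ t) s (φ ∘ z) := by
  funext u
  simp only [Function.comp_apply, Rop_apply]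
  split_ifs <;> simp

theorem Lprod_map (l : List S) (z : W → R) : φ ∘ Lprod σ t l z = Lprod σ (φ t) l (φ ∘ z) := by
  induction l with
  | nil => rfl
  | cons s l ih => rw [Lprod_cons, Lprod_cons, Module.End.mul_apply, Module.End.mul_apply, Lop_map, ih]

theorem Rprod_map (l : List S) (z : W → R) : φ ∘ Rprod σ t l z = Rprod σ (φ t) l (φ ∘ z) := by
  induction l with
  | nil => rfl
  | cons s l ih => rw [Rprod_cons, Rprod_cons, Module.End.mul_apply, Module.End.mul_apply, Rop_map, ih]

theorem Kop_map (z : W → R) : φ ∘ Kop (σ := σ) t z = Kop (σ := σ) (φ t) (φ ∘ z) := by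
  funext p
  simp only [Kop, Function.comp_apply, LinearMap.pi_apply, LinearMap.coe_comp, LinearMap.proj_apply,
    LinearMap.sub_apply, Pi.sub_apply, map_sub, ← Lop_map, ← Rop_map]

theorem Mop_map (h : HasExchange σ) [Fintype W] (z : W → R) :
    φ ∘ Mop t h z = Mop (φ t) h (φ ∘ z) := by
  funext u
  simp only [Mop, Function.comp_apply, LinearMap.sum_apply, LinearMap.smul_apply, Module.End.mul_apply,
    Finset.sum_apply, Pi.smul_apply, smul_eq_mul, map_sum, map_mul, map_pow]
  refine Finset.sum_congr rfl fun w _ => ?_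
  rw [← Rprod_map, ← Lprod_map]
  rfl

end natural

end Cfsg.Agent.HeckeW
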