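import Cfsg.Agent.Lib.HeckeW.Generic
import Cfsg.Agent.Lib.BN.Hecke
import Cfsg.Agent.Lib.ChevOrder.BNCount
import Cfsg.Agent.Lib.BN.Cosets

/-!
# The Hecke algebra of a (B,N)-pair at the parameter `q`

With a uniform index `q`, the linear map `Phi : (Weyl P → ℂ) → Matrix (G⧸B) (G⧸B) ℂ` turns the generic
operators at `q` into products with the adjacency matrices.
-/

set_option autoImplicit false

namespace Cfsg.Agent.HeckeW

open Cfsg.Agent.BN Cfsg.Agent.ChevOrder Finset
open scoped Classical Matrix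

variable {G : Type*} [Group G] (P : Cfsg.BNPair G)

/-- The adjacency matrix over `ℂ`. -/
noncomputable def adjC (w : Weyl P) : Matrix (G ⧸ P.B) (G ⧸ P.B) ℂ :=
  (adj P w).map Complex.ofRealHom

/-- A function on the Weyl group as a matrix. -/
noncomputable def Phi : (Weyl P → ℂ) →ₗ[ℂ] Matrix (G ⧸ P.B) (G ⧸ P.B) ℂ where
  toFun z := Matrix.of fun x y => z (cellW P (x.out⁻¹ * y.out))
  map_add' _ _ := rfl
  map_smul' _ _ := rfl

theorem Phi_mk (z : Weyl P → ℂ) (g k : G) :
    Phi P z (g : G ⧸ P.B) (k : G ⧸ P.B) = z (cellW P (g⁻¹ * k)) := by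
  show z (cellW P ((g : G ⧸ P.B).out⁻¹ * (k : G ⧸ P.B).out)) = _
  refine congrArg z (cellW_eq P ?_)
  exact (adj_mk_iff P _ g k).2 (mem_cellW P _)

theorem Phi_injective : Function.Injective (Phi P) := by
  intro a b e
  funext w
  obtain ⟨n, hn⟩ := C_nonempty P w
  have := congrFun (congrFun e ((1 : G) : G ⧸ P.B)) (n : G ⧸ P.B)
  rwa [Phi_mk, Phi_mk, inv_one, one_mul, cellW_eq P hn] at this

theorem Phi_single (w : Weyl P) : Phi P (Pi.single w 1) = adjC P w := by
  ext x y
  show (Pi.single w 1 : Weyl P → ℂ) (cellW P (x.out⁻¹ * y.out)) = Complex.ofReal (adj P w x y)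
  rw [Pi.single_apply, adj]
  by_cases h : cellW P (x.out⁻¹ * y.out) = w
  · rw [if_pos h, if_pos (show Adj P w x y from h ▸ mem_cellW P _)]; simp
  · rw [if_neg h, if_neg fun h' : Adj P w x y => h (cellW_eq P h')]; simp

variable [Fintype (G ⧸ P.B)]

theorem qw_eq {q : ℕ} (hq : ∀ s ∈ P.S, (P.B.map (MulAut.conj s).toMonoidHom).relIndex P.B = q)
    (w : Weyl P) : qw P w = q ^ len P w := by
  rw [← card_cell P hq w, qw, ← Fintype.card_subtype, ← Nat.card_eq_fintype_card]
  refine Nat.card_congr (Equiv.subtypeEquivRight fun y => ?_)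
  induction y using QuotientGroup.induction_on with
  | H g => rw [adj_mk_iff, mk_mem_cell_iff, inv_one, one_mul]

variable {q : ℕ} (hq : ∀ s ∈ P.S, (P.B.map (MulAut.conj s).toMonoidHom).relIndex P.B = q)

theorem adjC_one : adjC P 1 = 1 := by
  rw [adjC, adj_one]
  exact Matrix.map_one _ (map_zero _) (map_one _)

theorem adjC_simple_mul (s : P.S) {w : Weyl P} (hlt : len P w < len P (BN.sigma P s * w)) :
    adjC P (BN.sigma P s) * adjC P w = adjC P (BN.sigma P s * w) := by
  rw [adjC, adjC, adjC, ← Matrix.map_mul, adj_simple_mul P s hlt]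

theorem adjC_transpose_simple (s : P.S) : (adjC P (BN.sigma P s))ᵀ = adjC P (BN.sigma P s) := by
  ext x y
  show Complex.ofReal (adj P _ y x) = Complex.ofReal (adj P _ x y)
  congr 1
  simp only [adj]
  refine if_congr ?_ rfl rfl
  rw [adj_inv_iff, sigma_inv']

include hq

theorem adjC_simple_sq (s : P.S) : adjC P (BN.sigma P s) * adjC P (BN.sigma P s) =
    (q : ℂ) • 1 + ((q : ℂ) - 1) • adjC P (BN.sigma P s) := by
  have hlen : len P (BN.sigma P s) = 1 := (hasExchange P).wlen_sigma s
  rw [adjC, ← Matrix.map_mul, adj_simple_sq, qw_eq P hq, hlen, pow_one]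
  ext x y
  by_cases hxy : x = y <;> simp [Matrix.one_apply, hxy]

variable [Fintype (Weyl P)]

theorem Phi_Lop (s : P.S) (z : Weyl P → ℂ) :
    Phi P (Lop (BN.sigma P) (q : ℂ) s z) = adjC P (BN.sigma P s) * Phi P z := by
  have hE := hasExchange P
  have hup : ∀ {w : Weyl P}, len P w < len P (BN.sigma P s * w) →
      Phi P (Lop (BN.sigma P) (q : ℂ) s (Pi.single w 1)) = adjC P (BN.sigma P s) * adjC P w := by
    intro w hw
    rw [Lop_single _ hE hw, Phi_single, adjC_simple_mul P s hw]
  suffices h : (Phi P) ∘ₗ Lop (BN.sigma P) (q : ℂ) s =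
      (LinearMap.mulLeft ℂ (adjC P (BN.sigma P s))) ∘ₗ Phi P from LinearMap.congr_fun h z
  refine LinearMap.pi_ext fun w c => ?_
  have hc : (Pi.single w c : Weyl P → ℂ) = c • Pi.single w 1 := by rw [← Pi.single_smul, smul_eq_mul, mul_one]
  simp only [LinearMap.coe_comp, Function.comp_apply, LinearMap.mulLeft_apply, hc, map_smul, Phi_single]
  congr 1
  rcases hE.wlen_sigma_mul_cases s w with hl | hl
  · exact hup (by simp only [len]; omega)
  · set v := BN.sigma P s * w with hv
    have hwv : BN.sigma P s * v = w := sigma_mul_cancel hE.sq s w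
    have hlv : len P v < len P (BN.sigma P s * v) := by rw [hwv]; simp only [len]; omega
    have e : (Pi.single w 1 : Weyl P → ℂ) = Lop (BN.sigma P) (q : ℂ) s (Pi.single v 1) := by
      rw [Lop_single _ hE hlv, hwv]
    rw [e, ← Module.End.mul_apply, Lop_sq _ hE, LinearMap.add_apply, LinearMap.smul_apply,
      LinearMap.smul_apply, Module.End.one_apply, map_add, map_smul, map_smul, hup hlv, Phi_single]
    conv_rhs => rw [← hwv, ← adjC_simple_mul P s hlv]
    rw [← mul_assoc, adjC_simple_sq P hq, add_mul, smul_mul_assoc, smul_mul_assoc, one_mul]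

theorem Phi_Lprod (l : List P.S) (z : Weyl P → ℂ) :
    Phi P (Lprod (BN.sigma P) (q : ℂ) l z) = (l.map fun s => adjC P (BN.sigma P s)).prod * Phi P z := by
  induction l with
  | nil => simp
  | cons s l ih =>
    rw [Lprod_cons, Module.End.mul_apply, Phi_Lop P hq, ih, List.map_cons, List.prod_cons, mul_assoc]

theorem prod_adjC {l : List P.S} (hl : BN.IsReduced (BN.sigma P) l) :
    (l.map fun s => adjC P (BN.sigma P s)).prod = adjC P (wprod (BN.sigma P) l) := by
  have h := Phi_Lprod P hq l (Pi.single 1 1)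
  rwa [Lprod_single _ (hasExchange P) hl, Phi_single, Phi_single, adjC_one, mul_one, eq_comm] at h

theorem Phi_Rop (r : P.S) (z : Weyl P → ℂ) :
    Phi P (Rop (BN.sigma P) (q : ℂ) r z) = Phi P z * adjC P (BN.sigma P r) := by
  have hE := hasExchange P
  suffices h : (Phi P) ∘ₗ Rop (BN.sigma P) (q : ℂ) r =
      (LinearMap.mulRight ℂ (adjC P (BN.sigma P r))) ∘ₗ Phi P from LinearMap.congr_fun h z
  refine LinearMap.pi_ext fun w c => ?_
  have hc : (Pi.single w c : Weyl P → ℂ) = c • Pi.single w 1 := by rw [← Pi.single_smul, smul_eq_mul, mul_one]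
  simp only [LinearMap.coe_comp, Function.comp_apply, LinearMap.mulRight_apply, hc, map_smul]
  congr 1
  obtain ⟨l, hl, rfl⟩ := BN.exists_isReduced hE.sq hE.gen w
  rw [← Lprod_single (q : ℂ) hE hl, ← Module.End.mul_apply, Rop_Lprod _ hE, Module.End.mul_apply,
    Rop_single _ hE (w := 1) (by rw [one_mul, hE.wlen_sigma, wlen_one]; exact Nat.one_pos), one_mul,
    Phi_Lprod P hq, Phi_Lprod P hq, Phi_single, Phi_single, adjC_one, mul_one]

theorem Phi_Rprod (l : List P.S) (z : Weyl P → ℂ) :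
    Phi P (Rprod (BN.sigma P) (q : ℂ) l z) =
      Phi P z * ((l.map fun s => adjC P (BN.sigma P s)).prod)ᵀ := by
  induction l with
  | nil => simp
  | cons s l ih =>
    rw [Rprod_cons, Module.End.mul_apply, Phi_Rop P hq, ih, List.map_cons, List.prod_cons,
      Matrix.transpose_mul, adjC_transpose_simple, mul_assoc]

/-- The centre in matrix terms. -/
theorem mem_ker_Kop_iff (z : Weyl P → ℂ) :
    z ∈ LinearMap.ker (Kop (σ := BN.sigma P) (q : ℂ)) ↔
      ∀ s : P.S, adjC P (BN.sigma P s) * Phi P z = Phi P z * adjC P (BN.sigma P s) := by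
  rw [LinearMap.mem_ker, Kop_eq_zero_iff]
  refine forall_congr' fun s => ?_
  rw [← Phi_Lop P hq, ← Phi_Rop P hq, (Phi_injective P).eq_iff]

/-- The averaging operator in matrix terms. -/
theorem Phi_Mop (y : Weyl P → ℂ) :
    Phi P (Mop (q : ℂ) (hasExchange P) y) = ∑ w : Weyl P,
      (q : ℂ) ^ (maxLen (BN.sigma P) - len P w) • (adjC P w * Phi P y * (adjC P w)ᵀ) := by
  simp only [Mop, LinearMap.sum_apply, LinearMap.smul_apply, map_sum, map_smul, Module.End.mul_apply]
  refine Finset.sum_congr rfl fun w _ => ?_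
  rw [Phi_Lprod P hq, Phi_Rprod P hq, prod_adjC P hq (redWord_red (hasExchange P) w),
    redWord_prod, ← mul_assoc]

end Cfsg.Agent.HeckeW
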